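import Groth.Agent.Lib.DPerf.Perm
import Mathlib.CategoryTheory.Triangulated.Pretriangulated

/-! Direct summands of pseudo-coherent objects. -/

set_option autoImplicit false
set_option backward.isDefEq.respectTransparency false
set_option backward.isDefEq.respectTransparency.types false

universe u

open CategoryTheory CategoryTheory.Limits AlgebraicGeometry CategoryTheory.Pretriangulated

attribute [local instance] HasDerivedCategory.standard

namespace Groth.Agent.PCRel9

theorem pc_retract {X : Scheme.{u}} {L K : DCoh.D X} (s : L ⟶ K) (r : K ⟶ L) (h : s ≫ r = 𝟙 L) {m : ℤ}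
    (hK : DCoh.IsPseudoCoherentD m K) : DCoh.IsPseudoCoherentD m L := by
  obtain ⟨C, g, w, hT⟩ := distinguished_cocone_triangle s
  have hm : Mono s := IsSplitMono.mono s (hf := IsSplitMono.mk' ⟨r, h⟩)
  obtain ⟨e, -⟩ := exists_iso_binaryBiproduct_of_distTriang _ hT (Triangle.mor₃_eq_zero_of_mono₁ _ hT hm)
  exact (DPerf.isPseudoCoherentD_biprod (DPerf.isPseudoCoherentD_of_approx
    ((DPerf.approx_of_isPseudoCoherentD hK).of_iso (e : K ≅ L ⊞ C)))).1

end Groth.Agent.PCRel9
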