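import Groth.Agent.Lib.PCRel9.Test
import Groth.Agent.Lib.PCRel9.Retract
import Groth.Agent.Lib.DbCohPn9.Below
import Groth.Agent.Lib.DQC.TestMod
import Groth.Agent.Lib.DGen9.TorPush
import Groth.Agent.Lib.BC8.Shriek660
import Groth.Agent.Lib.BC8.TopDualRel
import Groth.Agent.S6200
import Groth.Agent.S0912
import Groth.Agent.S1105

/-! Bounding tensor products on projective space from perfect direct images. -/

set_option autoImplicit false
set_option linter.unusedSectionVars false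
set_option linter.style.haveILetI false
set_option backward.isDefEq.respectTransparency false
set_option backward.isDefEq.respectTransparency.types false
set_option maxHeartbeats 1600000

universe u

open CategoryTheory CategoryTheory.Limits MonoidalCategory AlgebraicGeometry Filter

attribute [local instance] HasDerivedCategory.standard

noncomputable section

namespace Groth.Agent.PCRel9

open DMon9

attribute [local instance] DBC9.hasRpush

variable {n : ℕ} {A : Type u} [CommRing A]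

local notation "PP" => CohB1.ProjSpace n A
local notation "τ" => CohB1.ProjSpace.toSpec n A
local notation "SS" => Spec (CommRingCat.of A)

theorem isLE_modM {X : Scheme.{u}} (F : X.Modules) : DerivedCategory.IsLE (TwistBC9.modM F : DCoh.D X) 0 :=
  inferInstanceAs (((DerivedCategory.singleFunctor X.Modules 0).obj F).IsLE 0)

/-- Perfect objects on affine schemes stay bounded below after tensoring with a module. -/
theorem exists_isGE_perfect_ten {D : DCoh.D SS} (hD : DCoh.IsPerfect D) (F : (SS).Modules) :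
    ∃ a : ℤ, ((TwistBC9.tenF F).obj D).IsGE a := by
  haveI : PreservesFiniteLimits (tilde.functor (CommRingCat.of A)) := M1.tilde_preservesFiniteLimits
  haveI : PreservesFiniteColimits (tilde.functor (CommRingCat.of A)) := by
    haveI := (tilde.adjunction (R := CommRingCat.of A)).leftAdjoint_preservesColimits
    infer_instance
  obtain ⟨M, ⟨e⟩⟩ := DQC.exists_iso_of_isQCohD _ (DGen9.isQCohD_of_isPerfect hD)
  obtain ⟨E, a', b', hv, hE, ⟨eE⟩⟩ := (S1105.result A M).1 (DGen9.isPerfect_of_iso e.symm hD)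
  let a := min a' b'
  let b := max a' b'
  have hflat : DCoh.HasFlatAmplitudeIn a b D := by
    refine ⟨(DPerf.tildeX (CommRingCat.of A)).obj E, fun i hi => (tilde.functor _).map_isZero (hv i ?_),
      fun i => ?_, ⟨((tilde.functor (CommRingCat.of A)).mapDerivedCategoryFactors.app E).symm ≪≫
        (DPerf.tildeDD (CommRingCat.of A)).mapIso eE ≪≫ e⟩⟩
    · rcases hi with hi | hi
      · exact Or.inl (lt_of_lt_of_le hi (min_le_left _ _))
      · exact Or.inr (lt_of_le_of_lt (le_max_right _ _) hi)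
    · haveI := (hE i).2
      haveI : Module.Flat A (E.X i) := inferInstance
      exact DPerf.isFlat_tilde (R := CommRingCat.of A) (N := E.X i)
  have h := (S0912.result D a b min_le_max fun G => KFlat.Sch.hasLTensorMod G).2 hflat
  haveI := KFlat.Sch.hasLTensorMod F
  obtain ⟨t⟩ := TwistBC9.nonempty_ltensorMod_iso F D
  exact ⟨a, (DerivedCategory.isGE_iff _ _).2 fun i hi =>
    (h F i (Or.inl hi)).of_iso ((DerivedCategory.homologyFunctor _ i).mapIso t.symm)⟩

/-- Twisted direct images commute with tensoring by modules of the base. -/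
theorem nonempty_F_ten (G : DM PP) (hG : DCoh.IsQCohD (G : DCoh.D PP)) (F : (SS).Modules) (hF : Coh.IsQCoh F)
    (d : ℤ) :
    Nonempty ((PnKoszul9.F (n := n) (A := A) d).obj ((G ⊗ (dPull τ).obj (TwistBC9.modM F) : DM PP) : DCoh.D PP) ≅
      (TwistBC9.tenF F).obj ((PnKoszul9.F (n := n) (A := A) d).obj (G : DCoh.D PP))) := by
  let M : DM PP := TwistBC9.modM (_root_.Twist.twistProjSpace n A d)
  have hM : DCoh.IsQCohD (M : DCoh.D PP) := DGen9.isQCohD_of_isPerfect (PnKoszul9.isPerfect_tw d)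
  obtain ⟨a⟩ := nonempty_tk_tenF d ((G ⊗ (dPull τ).obj (TwistBC9.modM F) : DM PP) : DCoh.D PP)
  obtain ⟨a'⟩ := nonempty_tk_tenF d (G : DCoh.D PP)
  obtain ⟨c⟩ := nonempty_swap G ((dPull τ).obj (TwistBC9.modM F)) M
  obtain ⟨b⟩ := nonempty_proj τ (G ⊗ M) (isQCohD_tensor hG hM) (TwistBC9.modM F)
    (TwistBC9.isQCohD_inD F hF 0)
  refine ⟨(DCoh.Rpush τ).mapIso (a ≪≫ c) ≪≫ b.symm ≪≫ ?_⟩
  exact (TwistBC9.tenF F).mapIso ((DCoh.Rpush τ).mapIso a'.symm)

/-- Tensoring with a module from the base keeps boundedness below. -/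
theorem exists_isGE_ten (G : DM PP) (hG : DCoh.IsQCohD (G : DCoh.D PP))
    (hF : ∀ d : ℕ, d ≤ n → DCoh.IsPerfect ((PnKoszul9.F (n := n) (A := A) (d : ℤ)).obj (G : DCoh.D PP)))
    (F : (SS).Modules) (hq : Coh.IsQCoh F) :
    ∃ a : ℤ, DerivedCategory.IsGE ((G ⊗ (dPull τ).obj (TwistBC9.modM F) : DM PP) : DCoh.D PP) a := by
  let C : DCoh.D PP := ((G ⊗ (dPull τ).obj (TwistBC9.modM F) : DM PP) : DCoh.D PP)
  have hC : DCoh.IsQCohD C :=
    isQCohD_tensor hG (isQCohD_lP τ (TwistBC9.isQCohD_inD F hq 0))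
  refine DbCohPn9.exists_isGE hC fun d hd => ?_
  obtain ⟨e⟩ := nonempty_F_ten G hG F hq (d : ℤ)
  obtain ⟨a, ha⟩ := exists_isGE_perfect_ten (hF d hd) F
  refine eventually_atBot.2 ⟨a - 1, fun t ht φ => ?_⟩
  have hz : IsZero (DCoh.HD ((PnKoszul9.F (n := n) (A := A) (d : ℤ)).obj C) t) :=
    ((DerivedCategory.isGE_iff _ _).1 ha t (by omega)).of_iso ((DerivedCategory.homologyFunctor _ t).mapIso e)
  obtain ⟨Φ, -⟩ := PnKoszul9.exists_homS (n := n) (A := A) t
  have e₁ := ((DerivedCategory.singleFunctors (PP).Modules).shiftIso (-t) t 0 (by omega)).app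
    (_root_.Twist.twistProjSpace n A (-(d : ℤ)))
  obtain ⟨w⟩ := PnKoszul9.nonempty_tk_one (n := n) (A := A) (d : ℤ) t
  haveI := PnKoszul9.isEquivalence_twD (_root_.Twist.twistProjSpace n A (d : ℤ)) (Twist.isInvertible_twistProjSpace n A (d : ℤ))
  rw [← cancel_epi e₁.inv, comp_zero]
  apply (PnKoszul9.tk (n := n) (A := A) (d : ℤ)).map_injective
  rw [Functor.map_zero, ← cancel_epi w.inv, comp_zero]
  apply (Φ _).injective
  exact (PnKoszul9.hom_one_eq_zero (PnKoszul9.isQCohD_F _ hC) t hz _).trans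
    (PnKoszul9.hom_one_eq_zero (PnKoszul9.isQCohD_F _ hC) t hz _).symm

/-- The restriction to affine space has bounded direct image after tensoring with any module of the base. -/
theorem exists_isGE_chart (G : DM PP) (hG : DCoh.IsQCohD (G : DCoh.D PP))
    (hF : ∀ d : ℕ, d ≤ n → DCoh.IsPerfect ((PnKoszul9.F (n := n) (A := A) (d : ℤ)).obj (G : DCoh.D PP)))
    (F : (SS).Modules) (hq : Coh.IsQCoh F) :
    ∃ a : ℤ, ((TwistBC9.tenF F).obj ((DCoh.Rpush (chart0 n A ≫ τ)).obj
      ((DPerf.resD (chart0 n A)).obj (G : DCoh.D PP)))).IsGE a := by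
  obtain ⟨a, ha⟩ := exists_isGE_ten G hG hF F hq
  let j := chart0 n A
  let c := j ≫ τ
  haveI : IsAffineHom c := by
    show IsAffineHom (chart0 n A ≫ τ)
    rw [chart0_toSpec]
    infer_instance
  let P : DM PP := (dPull τ).obj (TwistBC9.modM F)
  let Gj : DM (Spec (CommRingCat.of (MvPolynomial (Fin n) A))) := (dPull j).obj G
  have hGj : DCoh.IsQCohD (Gj : DCoh.D (Spec (CommRingCat.of (MvPolynomial (Fin n) A)))) := isQCohD_lP j hG
  obtain ⟨b⟩ := nonempty_proj c Gj hGj (TwistBC9.modM F) (TwistBC9.isQCohD_inD F hq 0)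
  let r : ((Gj ⊗ (dPull c).obj (TwistBC9.modM F) : DM _) : DCoh.D (Spec (CommRingCat.of (MvPolynomial (Fin n) A)))) ≅
      (DPerf.resD j).obj ((G ⊗ P : DM PP) : DCoh.D PP) :=
    whiskerLeftIso Gj (((lPComp j τ (h := c) rfl).app (TwistBC9.modM F : DCoh.D SS)).symm :
      (dPull c).obj (TwistBC9.modM F) ≅ (dPull j).obj P) ≪≫
      Functor.Monoidal.μIso (dPull j) G P ≪≫ (lPRes j).app _
  have hr : ((DPerf.resD j).obj ((G ⊗ P : DM PP) : DCoh.D PP)).IsGE a :=
    (DerivedCategory.isGE_iff _ _).2 fun i hi =>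
      ((Scheme.Modules.restrictFunctor j).map_isZero ((DerivedCategory.isGE_iff _ _).1 ha i hi)).of_iso
        (DPerf.hdResIso j _ i)
  haveI := DPush.isGE_rpush c _ a hr
  let e' : (DCoh.Rpush c).obj ((DPerf.resD j).obj ((G ⊗ P : DM PP) : DCoh.D PP)) ≅
      (TwistBC9.tenF F).obj ((DCoh.Rpush c).obj ((DPerf.resD j).obj (G : DCoh.D PP))) :=
    (DCoh.Rpush c).mapIso r.symm ≪≫ b.symm ≪≫
      (TwistBC9.tenF F).mapIso ((DCoh.Rpush c).mapIso ((lPRes j).app (G : DCoh.D PP)))
  exact ⟨a, DerivedCategory.TStructure.t.isGE_of_iso e' a⟩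

/-- The restriction to affine space has finite tor amplitude over the base. -/
theorem exists_flatAmplitude_chart (G : DM PP) (hG : DCoh.IsQCohD (G : DCoh.D PP)) (b : ℤ)
    [DerivedCategory.IsLE (G : DCoh.D PP) b]
    (hF : ∀ d : ℕ, d ≤ n → DCoh.IsPerfect ((PnKoszul9.F (n := n) (A := A) (d : ℤ)).obj (G : DCoh.D PP))) :
    ∃ a b : ℤ, DCoh.HasFlatAmplitudeIn a b ((DCoh.Rpush (chart0 n A ≫ τ)).obj
      ((DPerf.resD (chart0 n A)).obj (G : DCoh.D PP))) := by
  classical
  let j := chart0 n A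
  let c := j ≫ τ
  let D := (DCoh.Rpush c).obj ((DPerf.resD j).obj (G : DCoh.D PP))
  have hqj : DCoh.IsQCohD ((DPerf.resD j).obj (G : DCoh.D PP)) := DQC.isQCohD_resD j hG
  haveI hle : ((DPerf.resD j).obj (G : DCoh.D PP)).IsLE b := (DerivedCategory.isLE_iff _ _).2 fun i hi =>
    ((Scheme.Modules.restrictFunctor j).map_isZero (DerivedCategory.isZero_of_isLE _ b i hi)).of_iso
      (DPerf.hdResIso j _ i)
  obtain ⟨N, hN⟩ := DPush.exists_bound c
  have hDle : D.IsLE (b + N) := (DerivedCategory.isLE_iff _ _).2 fun i hi => hN _ hqj b hle i (by omega)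
  have hD : DCoh.IsQCohD D := DPush.isQCohD_rpush c _ hqj
  have hup : ∀ (F : (SS).Modules), ((TwistBC9.tenF F).obj D).IsLE (b + N) := fun F => by
    haveI := hDle
    haveI := isLE_modM F
    have := BC8.isLE_tenL D (TwistBC9.modM F : DCoh.D SS) (b + N) 0
    rw [zero_add] at this
    exact this
  have key : ∃ a : ℤ, ∀ (F : (SS).Modules), Coh.IsQCoh F → ((TwistBC9.tenF F).obj D).IsGE a := by
    by_contra hne
    push Not at hne
    choose Fs hFq hFn using fun k : ULift.{u} ℕ => hne (-(k.down : ℤ))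
    have hsum : Coh.IsQCoh (∐ Fs) :=
      M1.isQCoh_of_isColimit (F := Discrete.functor Fs) (fun k => hFq k.as) (colimit.isColimit _)
    obtain ⟨a, ha⟩ := exists_isGE_chart G hG hF (∐ Fs) hsum
    refine hFn ⟨(-a).toNat⟩ ((DerivedCategory.isGE_iff _ _).2 fun i hi => ?_)
    let k : ULift.{u} ℕ := ⟨(-a).toNat⟩
    let T : (SS).Modules ⥤ DCoh.D SS :=
      DerivedCategory.singleFunctor (SS).Modules 0 ⋙ ((tensorLeft (D : DM SS) : DM SS ⥤ DM SS) : DCoh.D SS ⥤ DCoh.D SS)
    let H := T ⋙ DerivedCategory.homologyFunctor (SS).Modules i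
    let p : (∐ Fs) ⟶ Fs k := Sigma.desc fun l => if h : l = k then eqToHom (congrArg Fs h) else 0
    haveI : Mono (H.map (Sigma.ι Fs k)) := (SplitMono.mk (H.map p) (by
      rw [← H.map_comp, Sigma.ι_desc, dif_pos rfl, eqToHom_refl, H.map_id])).mono
    exact IsZero.of_mono (H.map (Sigma.ι Fs k))
      ((DerivedCategory.isGE_iff _ _).1 ha i (by change i < -(((-a).toNat : ℕ) : ℤ) at hi; omega))
  obtain ⟨a, ha⟩ := key
  refine ⟨a, b + N, DQC.flatAmplitude_of_qcoh_tests hD a (b + N) fun F hq _ i hi => ?_⟩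
  obtain ⟨t⟩ := TwistBC9.nonempty_ltensorMod_iso F D
  refine IsZero.of_iso ?_ ((DerivedCategory.homologyFunctor _ i).mapIso t)
  rcases hi with hi | hi
  · exact (DerivedCategory.isGE_iff _ _).1 (ha F hq) i hi
  · exact (DerivedCategory.isLE_iff _ _).1 (hup F) i hi

end Groth.Agent.PCRel9
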