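import Groth.Agent.Lib.ProjSpace.Basic
import Groth.Agent.Lib.FMAdj9.Basic
import Groth.Agent.Lib.DGen9.LiftQC
import Groth.Agent.Lib.DGen9.FactorSupp
import Groth.Agent.S1510
import Groth.Agent.S7172
import Groth.Agent.S7175

/-! The graph of a closed immersion of an affine open into affine space. -/

set_option autoImplicit false
set_option linter.unusedSectionVars false
set_option linter.style.haveILetI false
set_option backward.isDefEq.respectTransparency false
set_option backward.isDefEq.respectTransparency.types false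
set_option maxHeartbeats 800000

universe u

open CategoryTheory CategoryTheory.Limits AlgebraicGeometry

attribute [local instance] HasDerivedCategory.standard

noncomputable section

namespace Groth.Agent.PCRel9

variable (n : ℕ) (A : Type u) [CommRing A]

/-- Affine space as the first chart of projective space. -/
def chart0 : Spec (CommRingCat.of (MvPolynomial (Fin n) A)) ⟶ CohB1.ProjSpace n A :=
  Spec.map (CommRingCat.ofHom (MvPolynomial.renameEquiv A (finSuccAboveEquiv (0 : Fin (n + 1)))).symm.toRingHom) ≫
    ProjSpace.chart n A 0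

instance isOpenImmersion_chart0 : IsOpenImmersion (chart0 n A) := by
  haveI : IsIso (CommRingCat.ofHom (MvPolynomial.renameEquiv A (finSuccAboveEquiv (0 : Fin (n + 1)))).symm.toRingHom) :=
    (ConcreteCategory.isIso_iff_bijective _).2 (AlgEquiv.bijective _)
  unfold chart0
  infer_instance

theorem chart0_toSpec : chart0 n A ≫ CohB1.ProjSpace.toSpec n A =
      Spec.map (CommRingCat.ofHom (algebraMap A (MvPolynomial (Fin n) A))) := by
  rw [chart0, Category.assoc, ProjSpace.chart_toSpec, ← Spec.map_comp]
  congr 1
  ext1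
  exact (MvPolynomial.renameEquiv A (finSuccAboveEquiv (0 : Fin (n + 1)))).symm.toAlgHom.comp_algebraMap

variable {n A} {X : Scheme.{u}} (π : X ⟶ Spec (CommRingCat.of A)) [IsSeparated π] [QuasiCompact π]
  [LocallyOfFinitePresentation π] (U : X.Opens)
  (i : (U : Scheme.{u}) ⟶ Spec (CommRingCat.of (MvPolynomial (Fin n) A))) [IsClosedImmersion i]
  (hi : i ≫ Spec.map (CommRingCat.ofHom (algebraMap A (MvPolynomial (Fin n) A))) = U.ι ≫ π)

/-- The fibre product of the scheme with projective space. -/
abbrev WP (n : ℕ) : Scheme.{u} := pullback π (CohB1.ProjSpace.toSpec n A)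

/-- Its open piece over affine space. -/
abbrev W0 (n : ℕ) : Scheme.{u} := pullback (pullback.snd π (CohB1.ProjSpace.toSpec n A)) (chart0 n A)

/-- The open piece inside. -/
abbrev jW (n : ℕ) : W0 π n ⟶ WP π n := pullback.fst _ _

/-- The open piece over affine space. -/
abbrev q0 (n : ℕ) : W0 π n ⟶ Spec (CommRingCat.of (MvPolynomial (Fin n) A)) := pullback.snd _ _

/-- The open piece over the scheme. -/
abbrev p0 (n : ℕ) : W0 π n ⟶ X := jW π n ≫ pullback.fst π (CohB1.ProjSpace.toSpec n A)

theorem smooth_p0 : Smooth (p0 π n) := by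
  have H : IsPullback (pullback.fst π (CohB1.ProjSpace.toSpec n A)) (pullback.snd π (CohB1.ProjSpace.toSpec n A))
      π (CohB1.ProjSpace.toSpec n A) := IsPullback.of_hasPullback _ _
  haveI : Smooth (pullback.fst π (CohB1.ProjSpace.toSpec n A)) :=
    MorphismProperty.of_isPullback H.flip (inferInstance : Smooth (CohB1.ProjSpace.toSpec n A))
  infer_instance

/-- The graph. -/
def graph0 : (U : Scheme.{u}) ⟶ W0 π n :=
  pullback.lift (pullback.lift U.ι (i ≫ chart0 n A) (by rw [Category.assoc, chart0_toSpec, hi]))
    i (by rw [pullback.lift_snd])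

@[reassoc]
theorem graph0_q0 : graph0 π U i hi ≫ q0 π n = i := pullback.lift_snd _ _ _

@[reassoc]
theorem graph0_p0 : graph0 π U i hi ≫ p0 π n = U.ι := by
  rw [graph0, p0, pullback.lift_fst_assoc, pullback.lift_fst]

theorem isClosedImmersion_graph0 : IsClosedImmersion (graph0 π U i hi) := by
  haveI : IsClosedImmersion (graph0 π U i hi ≫ q0 π n) := (graph0_q0 π U i hi).symm ▸ inferInstance
  exact IsClosedImmersion.of_comp (graph0 π U i hi) (q0 π n)

theorem isPerfect_graph0 :
    DCoh.IsPerfect (DCoh.inD (W0 π n) ((Coh.push (graph0 π U i hi)).obj (Coh.structureModule (U : Scheme.{u})))) := by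
  haveI := isClosedImmersion_graph0 π U i hi
  haveI := smooth_p0 (n := n) π
  refine S7175.result (graph0 π U i hi) (S1510.result (graph0 π U i hi) (p0 π n) ?_)
  rw [graph0_p0]
  exact S7172.result U.ι

attribute [local instance] DBC9.hasRpush

/-- A perfect object on the product containing the graph as a direct summand on the open piece. -/
theorem exists_ambient : ∃ (R : DCoh.D (WP π n))
    (s : DCoh.inD (W0 π n) ((Coh.push (graph0 π U i hi)).obj (Coh.structureModule (U : Scheme.{u}))) ⟶
      (DPerf.resD (jW π n)).obj R)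
    (r : (DPerf.resD (jW π n)).obj R ⟶
      DCoh.inD (W0 π n) ((Coh.push (graph0 π U i hi)).obj (Coh.structureModule (U : Scheme.{u})))),
    DCoh.IsPerfect R ∧ s ≫ r = 𝟙 _ := by
  haveI : CompactSpace X := QuasiCompact.compactSpace_of_compactSpace π
  haveI : QuasiSeparatedSpace X := quasiSeparatedSpace_of_quasiSeparated π
  haveI : QuasiCompact (pullback.fst π (CohB1.ProjSpace.toSpec n A)) :=
    MorphismProperty.of_isPullback (IsPullback.of_hasPullback π (CohB1.ProjSpace.toSpec n A)).flip inferInstance
  haveI : IsSeparated (pullback.fst π (CohB1.ProjSpace.toSpec n A)) :=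
    MorphismProperty.of_isPullback (IsPullback.of_hasPullback π (CohB1.ProjSpace.toSpec n A)).flip inferInstance
  haveI : CompactSpace (WP π n) :=
    QuasiCompact.compactSpace_of_compactSpace (pullback.fst π (CohB1.ProjSpace.toSpec n A))
  haveI : QuasiSeparatedSpace (WP π n) :=
    quasiSeparatedSpace_of_quasiSeparated (pullback.fst π (CohB1.ProjSpace.toSpec n A))
  haveI : CompactSpace (CohB1.ProjSpace n A) :=
    QuasiCompact.compactSpace_of_compactSpace (CohB1.ProjSpace.toSpec n A)
  haveI : QuasiSeparatedSpace (CohB1.ProjSpace n A) :=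
    quasiSeparatedSpace_of_quasiSeparated (CohB1.ProjSpace.toSpec n A)
  haveI : QuasiCompact (chart0 n A) := BC8.qc_of_qcqs _
  haveI : QuasiCompact (jW π n) := inferInstance
  have hc : IsCompact ((jW π n).opensRange : Set (WP π n)) := by
    haveI : CompactSpace (W0 π n) := QuasiCompact.compactSpace_of_compactSpace (jW π n)
    rw [Scheme.Hom.coe_opensRange]
    exact isCompact_range (jW π n).continuous
  have hL : DGen9.Lifts (jW π n) :=
    DGen9.lifts_congr (Scheme.Hom.isoOpensRange_hom_ι (jW π n))
      (haveI := DGen9.quasiCompact_ι hc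
       DGen9.lifts_comp _ _ (DGen9.lifts_iso (jW π n).isoOpensRange)
        (DGen9.lifts_opens (jW π n).opensRange hc))
  let F := DCoh.inD (W0 π n) ((Coh.push (graph0 π U i hi)).obj (Coh.structureModule (U : Scheme.{u})))
  obtain ⟨R, -, s, r, hR, -, hsr, -⟩ := hL Set.univ isClosed_univ (by simp)
    (DCoh.inD (WP π n) (Coh.structureModule (WP π n)))
    (DGen9.isQCohD_of_isPerfect (DGen9.isPerfect_inD_structure _)) F (isPerfect_graph0 π U i hi)
    (DGen9.suppOn_of_stalks fun x hx _ => absurd (Set.mem_univ _) hx) 0
  exact ⟨R, s, r, hR, hsr⟩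

end Groth.Agent.PCRel9
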