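import Groth.Agent.Lib.PCRel9.Test
import Groth.Agent.Lib.PCRel9.Retract
import Groth.Agent.Lib.RelPCS8.Chart
import Groth.Agent.Lib.RelPCS8.Local
import Groth.Prelude.Def_DerSch2

/-! Relative pseudo-coherence tested by perfect objects. -/

set_option autoImplicit false
set_option linter.unusedSectionVars false
set_option linter.style.haveILetI false
set_option backward.isDefEq.respectTransparency false
set_option backward.isDefEq.respectTransparency.types false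
set_option maxHeartbeats 1600000

universe u

open CategoryTheory CategoryTheory.Limits MonoidalCategory AlgebraicGeometry

attribute [local instance] HasDerivedCategory.standard

noncomputable section

namespace Groth.Agent.PCRel9

open DMon9 RelPCS8

attribute [local instance] DBC9.hasRpush

variable (A : Type u) [CommRing A] {X : Scheme.{u}} (π : X ⟶ Spec (CommRingCat.of A)) [IsSeparated π]
  [QuasiCompact π] [LocallyOfFinitePresentation π]

/-- Charts over `A` itself. -/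
theorem exists_chartA {U : X.Opens} (hU : IsAffineOpen U) :
    ∃ (n : ℕ) (φ : MvPolynomial (Fin n) Γ(Spec (CommRingCat.of A), ⊤) →+* Γ(X, U))
      (ψ : MvPolynomial (Fin n) A →+* Γ(X, U))
      (σ : MvPolynomial (Fin n) A →+* MvPolynomial (Fin n) Γ(Spec (CommRingCat.of A), ⊤)),
      DerSch.IsChart π U ⊤ le_top φ ∧ Function.Bijective σ ∧ ψ = φ.comp σ ∧ Function.Surjective ψ ∧
      imm U ψ ≫ Spec.map (CommRingCat.ofHom (algebraMap A (MvPolynomial (Fin n) A))) = U.ι ≫ π := by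
  obtain ⟨n, φ, hφ⟩ := exists_chart_of_lft (f := π) hU (isAffineOpen_top _) le_top
  let e : A ≃+* Γ(Spec (CommRingCat.of A), ⊤) :=
    (Scheme.ΓSpecIso (CommRingCat.of A)).symm.commRingCatIsoToRingEquiv
  let σ := (MvPolynomial.mapEquiv (Fin n) e).toRingHom
  have hσ : Function.Bijective σ := (MvPolynomial.mapEquiv (Fin n) e).bijective
  refine ⟨n, φ, φ.comp σ, σ, hφ, hσ, rfl, hφ.1.comp hσ.2, ?_⟩
  rw [imm, Category.assoc, ← Spec.map_comp]
  have hc : CommRingCat.ofHom (algebraMap A (MvPolynomial (Fin n) A)) ≫ CommRingCat.ofHom (φ.comp σ) =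
      (Scheme.ΓSpecIso (CommRingCat.of A)).inv ≫ π.appLE ⊤ U le_top := by
    ext a
    have h2 := RingHom.congr_fun hφ.2 (e a)
    refine Eq.trans ?_ h2
    show φ (σ (MvPolynomial.C a)) = φ (MvPolynomial.C (e a))
    exact congrArg φ (MvPolynomial.map_C e.toRingHom a)
  rw [hc, Spec.map_comp]
  have h1 := IsAffineOpen.SpecMap_appLE_fromSpec π (isAffineOpen_top (Spec (CommRingCat.of A))) hU le_top
  rw [IsAffineOpen.fromSpec_top, Scheme.isoSpec_Spec_inv] at h1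
  rw [h1, hU.toSpecΓ_fromSpec_assoc]

variable (K : CochainComplex X.Modules ℤ)

theorem isQCohD_tensor_kernel [DCoh.HasLTensorCx K] (E : DCoh.D X) :
    Nonempty ((DCoh.LTensorCx K).obj E ≅ (((E : DM X) ⊗ (DCoh.toD X K : DM X) : DM X) : DCoh.D X)) := by
  obtain ⟨e⟩ := FMAdj9.nonempty_ltIso K
  exact ⟨e.app E⟩

/-- The test objects on projective space. -/
theorem exists_chartTest [DCoh.HasLTensorCx K] (hK : DCoh.IsQCohD (DCoh.toD X K)) {U : X.Opens} {n : ℕ}
    (i : (U : Scheme.{u}) ⟶ Spec (CommRingCat.of (MvPolynomial (Fin n) A))) [IsClosedImmersion i]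
    (hi : i ≫ Spec.map (CommRingCat.ofHom (algebraMap A (MvPolynomial (Fin n) A))) = U.ι ≫ π) :
    ∃ (G : DCoh.D (CohB1.ProjSpace n A))
      (s : (pushD i).obj ((DPerf.resD U.ι).obj (DCoh.toD X K)) ⟶ (DPerf.resD (chart0 n A)).obj G)
      (r : (DPerf.resD (chart0 n A)).obj G ⟶ (pushD i).obj ((DPerf.resD U.ι).obj (DCoh.toD X K))),
      s ≫ r = 𝟙 _ ∧ DCoh.IsQCohD G ∧ ∀ d : ℤ, ∃ E : DCoh.D X, DCoh.IsPerfect E ∧
        Nonempty ((PnKoszul9.F (n := n) (A := A) d).obj G ≅ (DCoh.Rpush π).obj ((DCoh.LTensorCx K).obj E)) := by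
  obtain ⟨G, s, r, hsr, hG, hE⟩ := exists_test π U i hi (DCoh.toD X K : DM X) hK
  obtain ⟨e⟩ := RHom.nonempty_rpushIso i
  refine ⟨G, e.inv.app _ ≫ s, r ≫ e.hom.app _, ?_, hG, fun d => ?_⟩
  · rw [Category.assoc, reassoc_of% hsr]
    exact e.inv_hom_id_app _
  obtain ⟨E, hE, ⟨a⟩⟩ := hE d
  obtain ⟨b⟩ := isQCohD_tensor_kernel K (E : DCoh.D X)
  exact ⟨(E : DCoh.D X), hE, ⟨a ≪≫ (DCoh.Rpush π).mapIso b.symm⟩⟩

/-- Relative pseudo-coherence. -/
theorem rel_pc_of_test [DCoh.HasLTensorCx K] (hK : DCoh.IsQCohD (DCoh.toD X K))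
    (h : ∀ E : DCoh.D X, DCoh.IsPerfect E →
      ∀ m : ℤ, DCoh.IsPseudoCoherentD m ((DCoh.Rpush π).obj ((DCoh.LTensorCx K).obj E))) :
    DerSch.IsPseudoCoherentRelAll π (DCoh.toD X K) := by
  intro m
  refine ⟨inferInstance, {V | V.1 = ⊤}, ?_, fun V hV => ?_⟩
  · refine top_le_iff.1 (le_iSup₂_of_le ⟨⊤, isAffineOpen_top _⟩ rfl le_rfl)
  obtain ⟨V, hVa⟩ := V
  obtain rfl : V = ⊤ := hV
  refine ⟨Set.univ, ?_, fun U _ hle => ?_⟩
  · rw [Scheme.Hom.preimage_top]
    simpa using iSup_affineOpens_eq_top X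
  obtain ⟨n, φ, ψ, σ, hφ, hσ, hψ, hψs, hi⟩ := exists_chartA A π U.2
  refine ⟨n, φ, hφ, (chartPC_iff_test U.2 φ hφ.1 m _).2 ((test_comp_iff U.2 φ hφ.1 σ hσ.2
    (PCMor4.pcr_of_bijective σ hσ) m _).1 ?_)⟩
  rw [← hψ]
  intro hc
  obtain ⟨G, s, r, hsr, hG, hE⟩ := exists_chartTest A π K hK (imm (U : X.Opens) ψ) hi
  have hpc : ∀ k, DCoh.IsPseudoCoherentD k G := PnKoszul9.pc_of_F hG fun d _ k => by
    obtain ⟨E, hEp, ⟨e⟩⟩ := hE d
    exact DPerf.isPseudoCoherentD_of_approx ((DPerf.approx_of_isPseudoCoherentD (h E hEp k)).of_iso e.symm)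
  exact DPerf.approx_of_isPseudoCoherentD
    (pc_retract s r hsr (PerfPush9.pc_res (chart0 n A) (hpc m)))

end Groth.Agent.PCRel9
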