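import Groth.Agent.Lib.PCRel9.Main
import Groth.Agent.Lib.PCRel9.Amp
import Groth.Agent.Lib.RelPCS8.TorRpush
import Groth.Agent.Lib.RelPCS8.Closed
import Groth.Agent.Lib.RelPCS8.StalkId
import Groth.Agent.Lib.Exact8.ProjPush2

/-! Perfection relative to the base tested by perfect objects. -/

set_option autoImplicit false
set_option linter.unusedSectionVars false
set_option linter.style.haveILetI false
set_option backward.isDefEq.respectTransparency false
set_option backward.isDefEq.respectTransparency.types false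
set_option maxHeartbeats 1600000

universe u

open CategoryTheory CategoryTheory.Limits MonoidalCategory AlgebraicGeometry

attribute [local instance] HasDerivedCategory.standard

noncomputable section

namespace Groth.Agent.PCRel9

open DMon9 RelPCS8 RelPCS8.TorMV

attribute [local instance] DBC9.hasRpush

/-- Flat amplitude on an affine scheme is tor amplitude of the module complex. -/
theorem torAmp_of_flatAmplitude {R : CommRingCat.{u}} {L : Dual.D R} {a b : ℤ}
    (h : DCoh.HasFlatAmplitudeIn a b ((DPerf.tildeDD R).obj L)) : DRing.HasTorAmplitudeIn R a b L := by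
  haveI : PreservesFiniteLimits (tilde.functor R) := M1.tilde_preservesFiniteLimits
  let Kc := DerivedCategory.Q.objPreimage L
  let eK : DerivedCategory.Q.obj Kc ≅ L := DerivedCategory.Q.objObjPreimageIso L
  let eF : DCoh.toD (Spec R) ((DPerf.tildeX R).obj Kc) ≅ (DPerf.tildeDD R).obj L :=
    ((tilde.functor R).mapDerivedCategoryFactors.app Kc).symm ≪≫ (DPerf.tildeDD R).mapIso eK
  obtain ⟨E, hv, hE, ⟨eE⟩⟩ := h
  haveI : E.IsStrictlyLE b := (CochainComplex.isStrictlyLE_iff _ _).2 fun i hi => hv i (Or.inr hi)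
  haveI : (DCoh.toD (Spec R) E).IsLE b := inferInstance
  haveI : (DCoh.toD (Spec R) ((DPerf.tildeX R).obj Kc)).IsLE b := BC8.isLE_of_iso (eE ≪≫ eF.symm) inferInstance
  have h' := (S6200.result ((DPerf.tildeX R).obj Kc) b a b).1 ⟨E, hv, hE, ⟨eE ≪≫ eF.symm⟩⟩
  rw [← Spec.map_id] at h'
  exact DBaseChange.hasTorAmplitudeIn_of_iso (TorPush9.restrictIdIso L)
    ((RelT.hasTorAmplitude_tildeD_iff (𝟙 R) L ((DPerf.tildeX R).obj Kc) eF a b).1 h')

theorem ta_congr {X S : Scheme.{u}} {f g : X ⟶ S} (h : f = g) {a b : ℤ} {K : DCoh.D X} (hK : TA f a b K) :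
    TA g a b K := by
  subst h; exact hK

variable (A : Type u) [CommRing A] {X : Scheme.{u}} (π : X ⟶ Spec (CommRingCat.of A)) [IsSeparated π]
  [QuasiCompact π] [LocallyOfFinitePresentation π] [Flat π] (K : CochainComplex X.Modules ℤ) [DCoh.HasLTensorCx K]
  (hK : DCoh.IsQCohD (DCoh.toD X K))
  (h : ∀ E : DCoh.D X, DCoh.IsPerfect E → DCoh.IsPerfect ((DCoh.Rpush π).obj ((DCoh.LTensorCx K).obj E)))

include hK h in
/-- The complex is pseudo-coherent. -/
theorem pc_of_test (m : ℤ) : DCoh.IsPseudoCoherentD m (DCoh.toD X K) := by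
  have hrel := rel_pc_of_test A π K hK (fun E hE k => DGen9.isPseudoCoherentD_of_isPerfect (h E hE) k) m
  have hpf : ∀ k : ℤ, DerSch.IsNPseudoCoherent π k :=
    fun k => Exact8.nPseudoCoherent_of_isPerfectMor π (S7172.result π) k
  refine DPerf.isPseudoCoherentD_of_approx (approx_of_cover fun x => ?_)
  obtain ⟨U, hU, hxU, -⟩ := exists_isAffineOpen_mem_and_subset (X := X) (x := x) (U := ⊤) trivial
  refine ⟨_, U.ι, inferInstance, ⟨⟨x, hxU⟩, rfl⟩, ?_⟩
  exact (good_iff_approx_res hU (isAffineOpen_top _) le_top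
    (fun k => good_unit_of_nPseudoCoherent hpf hU (isAffineOpen_top _) le_top k) m _).1
      ((rel_iff.1 hrel).2 U ⊤ hU (isAffineOpen_top _) le_top)

include hK h in
/-- Finite amplitude of the sections on an affine open. -/
theorem exists_amp_affine {U : X.Opens} (hU : IsAffineOpen U) :
    ∃ a b : ℤ, TA (hU.fromSpec ≫ π) a b ((DPerf.resD hU.fromSpec).obj (DCoh.toD X K)) := by
  obtain ⟨n, φ, ψ, σ, hφ, hσ, hψ, hψs, hi⟩ := exists_chartA A π hU
  haveI : IsClosedImmersion (imm U ψ) := isClosedImmersion_imm hU ψ hψs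
  obtain ⟨G, s, r, hsr, hG, hE⟩ := exists_chartTest A π K hK (imm U ψ) hi
  have hF : ∀ d : ℕ, d ≤ n → DCoh.IsPerfect ((PnKoszul9.F (n := n) (A := A) (d : ℤ)).obj G) := fun d _ => by
    obtain ⟨E, hEp, ⟨e⟩⟩ := hE d
    exact DGen9.isPerfect_of_iso e.symm (h E hEp)
  have hpc : ∀ k, DCoh.IsPseudoCoherentD k G :=
    PnKoszul9.pc_of_F hG fun d hd k => DGen9.isPseudoCoherentD_of_isPerfect (hF d hd) k
  haveI : CompactSpace (CohB1.ProjSpace n A) :=
    QuasiCompact.compactSpace_of_compactSpace (CohB1.ProjSpace.toSpec n A)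
  obtain ⟨b₀, hb₀⟩ := DPerf.exists_isLE_of_pseudoCoherent (hpc 0)
  obtain ⟨a, b, hab⟩ := exists_flatAmplitude_chart (A := A) (G : DM (CohB1.ProjSpace n A)) hG b₀ hF
  let c := chart0 n A ≫ CohB1.ProjSpace.toSpec n A
  obtain ⟨e⟩ := RHom.nonempty_rpushIso (imm U ψ)
  have hic : imm U ψ ≫ c = U.ι ≫ π := by
    show imm U ψ ≫ chart0 n A ≫ CohB1.ProjSpace.toSpec n A = _
    rw [chart0_toSpec, hi]
  let D := (DCoh.Rpush (U.ι ≫ π)).obj ((DPerf.resD U.ι).obj (DCoh.toD X K))
  let w : D ≅ (DCoh.Rpush c).obj ((pushD (imm U ψ)).obj ((DPerf.resD U.ι).obj (DCoh.toD X K))) :=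
    ((FMAdj9.rpushComp (imm U ψ) c hic).app _).symm ≪≫ (DCoh.Rpush c).mapIso (e.app _)
  haveI := fun F : (Spec (CommRingCat.of A)).Modules => KFlat.Sch.hasLTensorMod F
  obtain ⟨L, ⟨eL⟩⟩ := RelT.exists_chartModule hU.fromSpec hK
  obtain ⟨φ', hφ'⟩ : ∃ φ' : CommRingCat.of A ⟶ Γ(X, U), Spec.map φ' = hU.fromSpec ≫ π :=
    ⟨Spec.preimage (hU.fromSpec ≫ π), Spec.map_preimage _⟩
  haveI : PreservesFiniteLimits (tilde.functor (CommRingCat.of A)) := M1.tilde_preservesFiniteLimits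
  haveI : PreservesFiniteLimits (tilde.functor Γ(X, U)) := M1.tilde_preservesFiniteLimits
  obtain ⟨cr⟩ := DPush9.nonempty_tildeD_rpush_iso φ'
  haveI : IsAffine (U : Scheme.{u}) := hU
  obtain ⟨bc⟩ := DBC9.nonempty_res_rpush (U.ι ≫ π) (Spec.map φ') (𝟙 (Spec (CommRingCat.of A))) hU.isoSpec.inv
    (IsPullback.of_horiz_isIso ⟨by rw [Category.comp_id, hφ', ← Category.assoc, IsAffineOpen.isoSpec_inv_ι]⟩).flip
  let z : (DPerf.tildeDD (CommRingCat.of A)).obj ((DRing.restrictD φ'.hom).obj L) ≅ D :=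
    (cr.app L).symm ≪≫ (DCoh.Rpush (Spec.map φ')).mapIso (eL ≪≫
      (RelPCS8.resDCongr (IsAffineOpen.isoSpec_inv_ι hU).symm).app _ ≪≫
      ((DPerf.resDComp U.ι hU.isoSpec.inv).app _).symm) ≪≫ (bc.app _).symm ≪≫
      ((lPRes (𝟙 (Spec (CommRingCat.of A)))).app _).symm ≪≫ (DBC9.lPId (Spec (CommRingCat.of A))).app _
  obtain ⟨a', b', ha', hb', hab'⟩ : ∃ a' b', a' ≤ a ∧ b ≤ b' ∧ a' ≤ b' :=
    ⟨min a b, max a b, min_le_left _ _, le_max_right _ _, min_le_max⟩
  have hfl : DCoh.HasFlatAmplitudeIn a' b' ((DPerf.tildeDD (CommRingCat.of A)).obj ((DRing.restrictD φ'.hom).obj L)) := by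
    refine (S0912.result _ a' b' hab' inferInstance).1 (DPerf.torAmplitude_of_retract (z.hom ≫ w.hom ≫ (DCoh.Rpush c).map s)
      ((DCoh.Rpush c).map r ≫ w.inv ≫ z.inv) ?_ ((S0912.result _ a' b' hab' inferInstance).2 ?_))
    · simp only [Category.assoc]
      rw [← Functor.map_comp_assoc, hsr, CategoryTheory.Functor.map_id, Category.id_comp]
      simp
    · obtain ⟨E, hv, hE, hiso⟩ := hab
      exact ⟨E, fun i hi => hv i (hi.imp (fun h => by omega) fun h => by omega), hE, hiso⟩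
  refine ⟨a', b', ta_congr hφ' ?_⟩
  exact (RelT.torAmp_iff_stalks φ' hU.fromSpec _ L eL a' b').1 (torAmp_of_flatAmplitude hfl)

include hK h in
/-- Perfection relative to the base. -/
theorem relPerf_of_test :
    (∀ m : ℤ, DCoh.IsPseudoCoherentD m (DCoh.toD X K)) ∧ DerSch.LocFiniteTorAmplitudeD π (DCoh.toD X K) := by
  refine ⟨pc_of_test A π K hK h, fun F ⟨eF⟩ x => ?_⟩
  obtain ⟨U, hU, hxU, -⟩ := exists_isAffineOpen_mem_and_subset (X := X) (x := x) (U := ⊤) trivial
  obtain ⟨a, b, hab⟩ := exists_amp_affine A π K hK h hU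
  refine ⟨U, a, b, hxU, fun x' hx' => ?_⟩
  obtain ⟨y, rfl⟩ : x' ∈ Set.range hU.fromSpec := by rw [hU.range_fromSpec]; exact hx'
  exact StalkTor.hasTorAmplitudeIn_congr ((DerSch.stalkOver π (hU.fromSpec.base y)).mapDerivedCategoryFactors.app F)
    (StalkTor.hasTorAmplitudeIn_congr ((St π (hU.fromSpec.base y)).mapIso eF.symm)
      ((TorRpush.ta_at_res π hU.fromSpec y).1 (hab y)))

end Groth.Agent.PCRel9
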