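import Groth.Agent.Lib.PCRel9.Geometry
import Groth.Agent.Lib.FMAdj9.ConvPerf
import Groth.Agent.Lib.PnKoszul9.PseudoCoh
import Groth.Agent.Lib.TwistBC9.Apps
import Groth.Agent.Lib.FMHyp13.DualPush
import Groth.Agent.Lib.RHom.ProjClosed

/-! An object on projective space testing pseudo-coherence relative to the base along a chart. -/

set_option autoImplicit false
set_option linter.unusedSectionVars false
set_option linter.style.haveILetI false
set_option backward.isDefEq.respectTransparency false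
set_option backward.isDefEq.respectTransparency.types false
set_option maxHeartbeats 1600000

universe u

open CategoryTheory CategoryTheory.Limits MonoidalCategory AlgebraicGeometry

attribute [local instance] HasDerivedCategory.standard

noncomputable section

namespace Groth.Agent.PCRel9

open DMon9 FMAdj9

attribute [local instance] DBC9.hasRpush

variable {n : ℕ} {A : Type u} [CommRing A]

theorem nonempty_tk_tenF (d : ℤ) (E : DCoh.D (CohB1.ProjSpace n A)) :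
    Nonempty ((PnKoszul9.tk (n := n) (A := A) d).obj E ≅
      (TwistBC9.tenF (_root_.Twist.twistProjSpace n A d)).obj E) := by
  haveI := KFlat.Sch.hasLTensorMod (_root_.Twist.twistProjSpace n A d)
  obtain ⟨a⟩ := PnKoszul9.nonempty_ltensorMod_twD (_root_.Twist.twistProjSpace n A d)
  obtain ⟨b⟩ := TwistBC9.nonempty_ltensorMod_iso (_root_.Twist.twistProjSpace n A d) E
  exact ⟨(a.app E).symm ≪≫ b⟩

theorem nonempty_proj {X Y : Scheme.{u}} (f : X ⟶ Y) [QuasiCompact f] [QuasiSeparated f] (T : DM X)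
    (hT : DCoh.IsQCohD (T : DCoh.D X)) (M : DM Y) (hM : DCoh.IsQCohD (M : DCoh.D Y)) :
    Nonempty ((((rM f).obj T ⊗ M : DM Y)) ≅ (rM f).obj (T ⊗ (dPull f).obj M)) := by
  obtain ⟨e⟩ := nonempty_projIso f M hM (ObjectProperty.ι (DCoh.IsQCohD (X := X))) fun c => c.property
  exact ⟨e.app (⟨(T : DCoh.D X), hT⟩ : (DCoh.IsQCohD (X := X)).FullSubcategory)⟩

theorem nonempty_swap {X : Scheme.{u}} (R P M : DM X) : Nonempty ((R ⊗ P) ⊗ M ≅ (R ⊗ M) ⊗ P) := by
  obtain ⟨c⟩ := nonempty_comm M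
  exact ⟨α_ R P M ≪≫ whiskerLeftIso R ((c.app P).symm) ≪≫ (α_ R M P).symm⟩

variable {X : Scheme.{u}} (π : X ⟶ Spec (CommRingCat.of A)) [IsSeparated π] [QuasiCompact π]
  [LocallyOfFinitePresentation π] (U : X.Opens)
  (i : (U : Scheme.{u}) ⟶ Spec (CommRingCat.of (MvPolynomial (Fin n) A))) [IsClosedImmersion i]
  (hi : i ≫ Spec.map (CommRingCat.ofHom (algebraMap A (MvPolynomial (Fin n) A))) = U.ι ≫ π)
  (κ : DM X) (hκ : DCoh.IsQCohD (κ : DCoh.D X))

include hκ in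
/-- Twisted direct images of the test object. -/
theorem twisted_test (R : DM (WP π n)) (hR : DCoh.IsPerfect (R : DCoh.D (WP π n))) (d : ℤ) :
    ∃ E : DM X, DCoh.IsPerfect (E : DCoh.D X) ∧
      Nonempty ((PnKoszul9.F (n := n) (A := A) d).obj ((DCoh.Rpush (pullback.snd π (CohB1.ProjSpace.toSpec n A))).obj
          ((R ⊗ (dPull (pullback.fst π (CohB1.ProjSpace.toSpec n A))).obj κ : DM (WP π n)) : DCoh.D (WP π n))) ≅
        (DCoh.Rpush π).obj ((E ⊗ κ : DM X) : DCoh.D X)) := by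
  let τ := CohB1.ProjSpace.toSpec n A
  let p := pullback.fst π τ
  let q := pullback.snd π τ
  have H : IsPullback p q π τ := IsPullback.of_hasPullback π τ
  haveI : IsProper p := MorphismProperty.of_isPullback H.flip (inferInstance : IsProper τ)
  haveI : Flat p := MorphismProperty.of_isPullback H.flip (inferInstance : Flat τ)
  haveI : LocallyOfFinitePresentation p :=
    MorphismProperty.of_isPullback H.flip (inferInstance : LocallyOfFinitePresentation τ)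
  haveI : QuasiCompact q := MorphismProperty.of_isPullback H (inferInstance : QuasiCompact π)
  haveI : IsSeparated q := MorphismProperty.of_isPullback H (inferInstance : IsSeparated π)
  let M : DM (CohB1.ProjSpace n A) := TwistBC9.modM (_root_.Twist.twistProjSpace n A d)
  have hM : DCoh.IsPerfect (M : DCoh.D (CohB1.ProjSpace n A)) := PnKoszul9.isPerfect_tw d
  let P := (dPull p).obj κ
  let N := (dPull q).obj M
  have hP : DCoh.IsQCohD (P : DCoh.D (WP π n)) := isQCohD_lP p hκ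
  have hN : DCoh.IsPerfect (N : DCoh.D (WP π n)) := PerfPush9.isPerfect_lP q hM
  have hRN := isPerfect_tensor_perf hR hN
  have hRP : DCoh.IsQCohD ((R ⊗ P : DM (WP π n)) : DCoh.D (WP π n)) :=
    isQCohD_tensor (DGen9.isQCohD_of_isPerfect hR) hP
  obtain ⟨a⟩ := nonempty_tk_tenF d ((DCoh.Rpush q).obj ((R ⊗ P : DM (WP π n)) : DCoh.D (WP π n)))
  obtain ⟨b⟩ := nonempty_proj q (R ⊗ P) hRP M (DGen9.isQCohD_of_isPerfect hM)
  obtain ⟨c⟩ := nonempty_swap R P N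
  obtain ⟨b'⟩ := nonempty_proj p (R ⊗ N) (DGen9.isQCohD_of_isPerfect hRN) κ hκ
  refine ⟨(rM p).obj (R ⊗ N), PerfPush9.isPerfect_rpush_flat p _ hRN, ⟨?_⟩⟩
  exact (DCoh.Rpush τ).mapIso (a ≪≫ b ≪≫ (rM q).mapIso c) ≪≫
    (FMAdj9.rpushComp q τ (h := p ≫ π) H.w.symm).app _ ≪≫
    ((FMAdj9.rpushComp p π (h := p ≫ π) rfl).app _).symm ≪≫ (DCoh.Rpush π).mapIso b'.symm

include hi hκ in
/-- The test object. -/
theorem exists_test : ∃ (G : DCoh.D (CohB1.ProjSpace n A))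
    (s : (DCoh.Rpush i).obj ((DPerf.resD U.ι).obj (κ : DCoh.D X)) ⟶ (DPerf.resD (chart0 n A)).obj G)
    (r : (DPerf.resD (chart0 n A)).obj G ⟶ (DCoh.Rpush i).obj ((DPerf.resD U.ι).obj (κ : DCoh.D X))),
    s ≫ r = 𝟙 _ ∧ DCoh.IsQCohD G ∧ ∀ d : ℤ, ∃ E : DM X, DCoh.IsPerfect (E : DCoh.D X) ∧
      Nonempty ((PnKoszul9.F (n := n) (A := A) d).obj G ≅ (DCoh.Rpush π).obj ((E ⊗ κ : DM X) : DCoh.D X)) := by
  obtain ⟨R, s₀, r₀, hR, hsr⟩ := exists_ambient π U i hi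
  let τ := CohB1.ProjSpace.toSpec n A
  let p := pullback.fst π τ
  let q := pullback.snd π τ
  let j := jW π n
  let Γ₀ := graph0 π U i hi
  haveI : IsClosedImmersion Γ₀ := isClosedImmersion_graph0 π U i hi
  have H : IsPullback p q π τ := IsPullback.of_hasPullback π τ
  haveI : QuasiCompact q := MorphismProperty.of_isPullback H (inferInstance : QuasiCompact π)
  haveI : IsSeparated q := MorphismProperty.of_isPullback H (inferInstance : IsSeparated π)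
  haveI : QuasiCompact p := MorphismProperty.of_isPullback H.flip (inferInstance : QuasiCompact τ)
  let P := (dPull p).obj κ
  let P₀ : DM (W0 π n) := (dPull (p0 π n)).obj κ
  have hP₀ : DCoh.IsQCohD (P₀ : DCoh.D (W0 π n)) := isQCohD_lP (p0 π n) hκ
  let R' : DM (WP π n) := R
  have hRP : DCoh.IsQCohD ((R' ⊗ P : DM (WP π n)) : DCoh.D (WP π n)) :=
    isQCohD_tensor (DGen9.isQCohD_of_isPerfect hR) (isQCohD_lP p hκ)
  refine ⟨(DCoh.Rpush q).obj ((R' ⊗ P : DM (WP π n)) : DCoh.D (WP π n)), ?_⟩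
  -- restriction to the chart
  obtain ⟨bc⟩ := DBC9.nonempty_res_rpush q (q0 π n) (chart0 n A) j (IsPullback.of_hasPullback q (chart0 n A)).flip
  let Rj : DM (W0 π n) := (dPull j).obj R'
  let rj : ((Rj ⊗ P₀ : DM (W0 π n)) : DCoh.D (W0 π n)) ≅
      (DPerf.resD j).obj ((R' ⊗ P : DM (WP π n)) : DCoh.D (WP π n)) :=
    (whiskerLeftIso Rj (((lPComp j p (h := p0 π n) rfl).app (κ : DCoh.D X)).symm : P₀ ≅ (dPull j).obj P)) ≪≫
      (Functor.Monoidal.μIso (dPull j) R' P) ≪≫ (lPRes j).app _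
  -- the summand
  let F : DM (W0 π n) := DCoh.inD (W0 π n) ((Coh.push Γ₀).obj (Coh.structureModule (U : Scheme.{u})))
  let s₁ : F ⟶ Rj := s₀ ≫ (lPRes j).inv.app R
  let r₁ : Rj ⟶ F := (lPRes j).hom.app R ≫ r₀
  have h1 : s₁ ≫ r₁ = 𝟙 F := by
    show (s₀ ≫ (lPRes j).inv.app R) ≫ (lPRes j).hom.app R ≫ r₀ = 𝟙 _
    rw [Category.assoc, Iso.inv_hom_id_app_assoc]
    exact hsr
  let s' : F ⊗ P₀ ⟶ Rj ⊗ P₀ := s₁ ▷ P₀
  let r' : Rj ⊗ P₀ ⟶ F ⊗ P₀ := r₁ ▷ P₀
  have hsr' : s' ≫ r' = 𝟙 (F ⊗ P₀) :=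
    (MonoidalCategory.comp_whiskerRight s₁ r₁ P₀).symm.trans
      ((congrArg (fun t : F ⟶ F => t ▷ P₀) h1).trans (MonoidalCategory.id_whiskerRight F P₀))
  -- the summand is the direct image along the chart
  obtain ⟨rI⟩ := RHom.nonempty_rpushIso Γ₀
  let one : DM (U : Scheme.{u}) := DCoh.inD (U : Scheme.{u}) (Coh.structureModule (U : Scheme.{u}))
  let eF : F ≅ (rM Γ₀).obj one :=
    ((rI.app (DCoh.inD (U : Scheme.{u}) (Coh.structureModule (U : Scheme.{u}))) ≪≫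
      ((Scheme.Modules.pushforward Γ₀).mapDerivedCategorySingleFunctor 0).app _).symm :)
  obtain ⟨cm⟩ := nonempty_comm F
  obtain ⟨kp⟩ := nonempty_kernelPush Γ₀ one (DGen9.isQCohD_of_isPerfect (DGen9.isPerfect_inD_structure _))
    (ObjectProperty.ι (DCoh.IsQCohD (X := W0 π n))) fun c => c.property
  let k₁ : ((F ⊗ P₀ : DM (W0 π n)) : DCoh.D (W0 π n)) ≅ (DCoh.Rpush Γ₀).obj ((DPerf.resD U.ι).obj (κ : DCoh.D X)) :=
    (cm.app P₀ ≪≫ whiskerLeftIso P₀ eF) ≪≫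
      (kp.app (⟨(P₀ : DCoh.D (W0 π n)), hP₀⟩ : (DCoh.IsQCohD (X := W0 π n)).FullSubcategory)).symm ≪≫
      (DCoh.Rpush Γ₀).mapIso ((whiskerLeftIso ((dPull Γ₀).obj P₀) FMHyp13.DualPush.oneIso ≪≫ ρ_ _ :
          (dPull Γ₀).obj P₀ ⊗ one ≅ (dPull Γ₀).obj P₀) ≪≫
        (lPComp Γ₀ (p0 π n) (graph0_p0 π U i hi)).app (κ : DCoh.D X) ≪≫ (lPRes U.ι).app _)
  let k₂ : (DCoh.Rpush (q0 π n)).obj ((F ⊗ P₀ : DM (W0 π n)) : DCoh.D (W0 π n)) ≅
      (DCoh.Rpush i).obj ((DPerf.resD U.ι).obj (κ : DCoh.D X)) :=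
    (DCoh.Rpush (q0 π n)).mapIso k₁ ≪≫ (FMAdj9.rpushComp Γ₀ (q0 π n) (graph0_q0 π U i hi)).app _
  let k₃ : (DCoh.Rpush (q0 π n)).obj ((Rj ⊗ P₀ : DM (W0 π n)) : DCoh.D (W0 π n)) ≅
      (DPerf.resD (chart0 n A)).obj ((DCoh.Rpush q).obj ((R' ⊗ P : DM (WP π n)) : DCoh.D (WP π n))) :=
    (DCoh.Rpush (q0 π n)).mapIso rj ≪≫ (bc.app _).symm
  refine ⟨k₂.inv ≫ (DCoh.Rpush (q0 π n)).map s' ≫ k₃.hom, k₃.inv ≫ (DCoh.Rpush (q0 π n)).map r' ≫ k₂.hom,
    ?_, DPush.isQCohD_rpush _ _ hRP, fun d => twisted_test π κ hκ R' hR d⟩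
  simp only [Category.assoc, Iso.hom_inv_id_assoc]
  rw [← Functor.map_comp_assoc]
  rw [show (s' ≫ r' : ((F ⊗ P₀ : DM (W0 π n)) : DCoh.D (W0 π n)) ⟶ _) = 𝟙 _ from hsr', CategoryTheory.Functor.map_id,
    Category.id_comp, Iso.inv_hom_id]

end Groth.Agent.PCRel9
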